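import Mathlib.AlgebraicGeometry.FunctionField
import Mathlib.AlgebraicGeometry.Morphisms.Integral
import Mathlib.AlgebraicGeometry.Morphisms.Separated
import Mathlib.RingTheory.LocalProperties.IntegrallyClosed

set_option autoImplicit false
universe u

open CategoryTheory Limits AlgebraicGeometry

namespace GrothLib.NormalExt

lemma isIntegrallyClosed_Γ {X : Scheme.{u}} [IsIntegral X]
    (hX : ∀ x : X, IsIntegrallyClosed (X.presheaf.stalk x)) (V : X.Opens) (hV : IsAffineOpen V)
    [Nonempty V] : IsIntegrallyClosed Γ(X, V) := by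
  refine IsIntegrallyClosed.of_localization_maximal fun p _ hp => ?_
  let q : PrimeSpectrum Γ(X, V) := ⟨p, hp.isPrime⟩
  have hy : hV.fromSpec q ∈ V := by
    have := Set.mem_range_self (f := hV.fromSpec) q
    rwa [hV.range_fromSpec] at this
  letI := TopCat.Presheaf.algebra_section_stalk X.presheaf (⟨hV.fromSpec q, hy⟩ : V)
  haveI : IsLocalization.AtPrime (X.presheaf.stalk (hV.fromSpec q)) p := hV.isLocalization_stalk' q hy
  exact (hX (hV.fromSpec q)).of_equiv
    (IsLocalization.algEquiv p.primeCompl (X.presheaf.stalk (hV.fromSpec q))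
      (Localization.AtPrime p)).toRingEquiv

lemma exists_section_affine {W W' : Scheme.{u}} [IsAffine W] (g : W' ⟶ W) [IsIntegralHom g]
    {K : Type u} [CommRing K] (j : Spec (CommRingCat.of K) ⟶ W) (t : Spec (CommRingCat.of K) ⟶ W')
    (ht : t ≫ g = j)
    (hinj : Function.Injective (j.appTop ≫ (Scheme.ΓSpecIso (CommRingCat.of K)).hom))
    (hcl : ∀ y : K, (j.appTop ≫ (Scheme.ΓSpecIso (CommRingCat.of K)).hom).hom.IsIntegralElem y →
      ∃ a, (j.appTop ≫ (Scheme.ΓSpecIso (CommRingCat.of K)).hom) a = y) :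
    ∃ σ : W ⟶ W', σ ≫ g = 𝟙 W ∧ j ≫ σ = t := by
  haveI : IsAffine W' := isAffine_of_isAffineHom g
  let γ : Γ(W, ⊤) ⟶ CommRingCat.of K := j.appTop ≫ (Scheme.ΓSpecIso (CommRingCat.of K)).hom
  let ψ : Γ(W', ⊤) ⟶ CommRingCat.of K := t.appTop ≫ (Scheme.ΓSpecIso (CommRingCat.of K)).hom
  have hγ : g.appTop ≫ ψ = γ := by
    simp only [γ, ψ, ← ht, Scheme.Hom.comp_appTop, Category.assoc]
  have hmem : ∀ b, ψ b ∈ γ.hom.range := by
    intro b
    have hi : γ.hom.IsIntegralElem (ψ b) := by
      obtain ⟨p, hp, hp0⟩ := IsIntegralHom.isIntegral_app g ⊤ (isAffineOpen_top W) b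
      refine ⟨p, hp, ?_⟩
      change Polynomial.eval₂ γ.hom (ψ b) p = 0
      rw [← hγ, CommRingCat.hom_comp]
      exact (Polynomial.hom_eval₂ _ _ _ _).symm.trans ((congrArg _ hp0).trans (map_zero _))
    exact hcl (ψ b) hi
  let r : Γ(W', ⊤) ⟶ Γ(W, ⊤) := CommRingCat.ofHom
    (((RingEquiv.ofBijective γ.hom.rangeRestrict
      ⟨fun a b h => hinj (congrArg Subtype.val h), γ.hom.rangeRestrict_surjective⟩).symm.toRingHom).comp
        (ψ.hom.codRestrict γ.hom.range hmem))
  have hr : ∀ b, γ (r b) = ψ b := fun b => by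
    let e := RingEquiv.ofBijective γ.hom.rangeRestrict
      ⟨fun a b h => hinj (congrArg Subtype.val h), γ.hom.rangeRestrict_surjective⟩
    exact congrArg Subtype.val (e.apply_symm_apply ⟨ψ b, hmem b⟩)
  have hgr : g.appTop ≫ r = 𝟙 _ := by
    ext a
    apply hinj
    change γ (r (g.appTop a)) = γ a
    rw [hr, ← hγ]
    rfl
  let σ : W ⟶ W' := W.isoSpec.hom ≫ Spec.map r ≫ W'.isoSpec.inv
  have hσ : σ.appTop = r := by
    have : σ ≫ W'.toSpecΓ = W.toSpecΓ ≫ Spec.map r := by
      simp only [σ, Category.assoc]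
      rw [← Scheme.isoSpec_hom W', Iso.inv_hom_id, Category.comp_id]
      rfl
    have h2 : W.toSpecΓ ≫ Spec.map σ.appTop = W.toSpecΓ ≫ Spec.map r := by
      rw [← Scheme.toSpecΓ_naturality]; exact this
    exact Spec.map_injective ((cancel_epi W.isoSpec.hom).mp h2)
  refine ⟨σ, ext_of_isAffine ?_, ext_of_isAffine ?_⟩
  · rw [Scheme.Hom.comp_appTop, hσ, hgr, Scheme.Hom.id_appTop]
  · rw [Scheme.Hom.comp_appTop, hσ, ← cancel_mono (Scheme.ΓSpecIso (CommRingCat.of K)).hom,
      Category.assoc]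
    ext b
    exact hr b

variable {X X' : Scheme.{u}} [IsIntegral X] (hX : ∀ x : X, IsIntegrallyClosed (X.presheaf.stalk x))

instance isDominant_fromSpecStalk_genericPoint :
    IsDominant (X.fromSpecStalk (genericPoint X)) := by
  refine ⟨fun x => ?_⟩
  have h : genericPoint X ∈ Set.range (X.fromSpecStalk (genericPoint X)) := by
    rw [Scheme.range_fromSpecStalk]; exact specializes_rfl
  exact closure_mono (Set.singleton_subset_iff.mpr h)
    ((genericPoint_spec X).symm ▸ Set.mem_univ x)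

include hX in
/-- A rational section of an integral morphism to a normal integral scheme extends. -/
theorem exists_section (g : X' ⟶ X) [IsIntegralHom g]
    (t : Spec X.functionField ⟶ X') (ht : t ≫ g = X.fromSpecStalk (genericPoint X)) :
    ∃ σ : X ⟶ X', σ ≫ g = 𝟙 X ∧ X.fromSpecStalk (genericPoint X) ≫ σ = t := by
  classical
  let η := genericPoint X
  let J := {V : X.affineOpens // η ∈ (V : X.Opens)}
  have hloc : ∀ V : J, ∃ σ : (V.1 : X.Opens).toScheme ⟶ X', σ ≫ g = (V.1 : X.Opens).ι ∧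
      ∀ j : Spec X.functionField ⟶ (V.1 : X.Opens).toScheme,
        j ≫ (V.1 : X.Opens).ι = X.fromSpecStalk η → j ≫ σ = t := by
    intro V
    let O : X.Opens := V.1
    have hO : IsAffineOpen O := V.1.2
    haveI : IsAffine O.toScheme := hO
    haveI : Nonempty O := ⟨⟨η, V.2⟩⟩
    haveI : IsIntegralHom (pullback.snd g O.ι) := MorphismProperty.pullback_snd _ _ inferInstance
    have hr : Set.range (X.fromSpecStalk η) ⊆ Set.range O.ι := by
      rw [Scheme.Opens.range_ι, Scheme.range_fromSpecStalk]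
      intro z hz
      exact hz.mem_open O.isOpen V.2
    let j : Spec X.functionField ⟶ O.toScheme := O.fromSpecStalkOfMem η V.2
    have hj : j ≫ O.ι = X.fromSpecStalk η := O.fromSpecStalkOfMem_ι η V.2
    have hγ : O.topIso.inv ≫ j.appTop ≫ (Scheme.ΓSpecIso X.functionField).hom =
        X.germToFunctionField O := by
      have h1 : (j ≫ O.toSpecΓ).appTop = (Spec.map (X.presheaf.germ O η V.2)).appTop :=
        congrArg (fun φ => φ.appTop) (O.fromSpecStalkOfMem_toSpecΓ η V.2)
      rw [Scheme.Hom.comp_appTop, Scheme.Opens.toSpecΓ_appTop] at h1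
      have h2 := congrArg (· ≫ (Scheme.ΓSpecIso X.functionField).hom) h1
      simp only [Category.assoc] at h2
      exact (cancel_epi (Scheme.ΓSpecIso Γ(X, O)).hom).mp (h2.trans (Scheme.ΓSpecIso_naturality _))
    haveI := functionField_isFractionRing_of_isAffineOpen X O hO
    haveI := isIntegrallyClosed_Γ hX O hO
    have hf : ∀ a, (j.appTop ≫ (Scheme.ΓSpecIso X.functionField).hom) a =
        algebraMap Γ(X, O) X.functionField (O.topIso.hom a) := by
      intro a
      change _ = X.germToFunctionField O (O.topIso.hom a)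
      rw [← hγ, ← CategoryTheory.comp_apply, Iso.hom_inv_id_assoc]
    have hinj : Function.Injective (j.appTop ≫ (Scheme.ΓSpecIso X.functionField).hom) := by
      intro a b hab
      rw [hf, hf] at hab
      exact (ConcreteCategory.bijective_of_isIso O.topIso.hom).1
        (IsFractionRing.injective Γ(X, O) X.functionField hab)
    have hcl : ∀ y : X.functionField, (j.appTop ≫ (Scheme.ΓSpecIso X.functionField).hom).hom.IsIntegralElem y →
        ∃ a, (j.appTop ≫ (Scheme.ΓSpecIso X.functionField).hom) a = y := by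
      intro y hy
      have hint : IsIntegral Γ(X, O) y := by
        obtain ⟨p, hp, hp0⟩ := hy
        refine ⟨p.map O.topIso.hom.hom, hp.map _, ?_⟩
        rw [Polynomial.eval₂_map]
        convert hp0 using 2
        exact RingHom.ext fun a => (hf a).symm
      obtain ⟨a, ha⟩ := IsIntegrallyClosed.isIntegral_iff.mp hint
      obtain ⟨b, rfl⟩ := (ConcreteCategory.bijective_of_isIso O.topIso.hom).2 a
      exact ⟨b, (hf b).trans ha⟩
    obtain ⟨σ, h1, h2⟩ := exists_section_affine (K := X.functionField) (pullback.snd g O.ι) j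
      (pullback.lift t j (ht.trans hj.symm)) (pullback.lift_snd _ _ _) hinj hcl
    refine ⟨σ ≫ pullback.fst g O.ι, ?_, fun j' hj' => ?_⟩
    · rw [Category.assoc, pullback.condition, ← Category.assoc, h1, Category.id_comp]
    · obtain rfl : j' = j := (cancel_mono O.ι).mp (hj'.trans hj.symm)
      exact (Category.assoc _ _ _).symm.trans ((congrArg (· ≫ _) h2).trans (pullback.lift_fst _ _ _))
  choose σ hσ hσt using hloc
  have hcov : (⨆ V : J, (V.1 : X.Opens)) = ⊤ := by
    refine top_le_iff.mp fun x _ => ?_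
    obtain ⟨V, hV, hxV, -⟩ := exists_isAffineOpen_mem_and_subset (U := (⊤ : X.Opens)) (x := x) trivial
    exact TopologicalSpace.Opens.mem_iSup.mpr ⟨⟨⟨V, hV⟩,
      ((genericPoint_spec X).mem_open_set_iff V.isOpen).mpr ⟨x, trivial, hxV⟩⟩, hxV⟩
  let 𝒰 := X.openCoverOfIsOpenCover (fun V : J => (V.1 : X.Opens)) hcov
  have hag : ∀ a b : J, pullback.fst (a.1 : X.Opens).ι (b.1 : X.Opens).ι ≫ σ a =
      pullback.snd _ _ ≫ σ b := by
    intro a b
    haveI := isReduced_of_isOpenImmersion
      (pullback.fst (a.1 : X.Opens).ι (b.1 : X.Opens).ι ≫ (a.1 : X.Opens).ι)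
    let l : Spec X.functionField ⟶ pullback (a.1 : X.Opens).ι (b.1 : X.Opens).ι :=
      pullback.lift ((a.1 : X.Opens).fromSpecStalkOfMem η a.2) ((b.1 : X.Opens).fromSpecStalkOfMem η b.2)
        (by rw [Scheme.Opens.fromSpecStalkOfMem_ι, Scheme.Opens.fromSpecStalkOfMem_ι])
    have hl1 : l ≫ pullback.fst _ _ = (a.1 : X.Opens).fromSpecStalkOfMem η a.2 := pullback.lift_fst _ _ _
    have hl2 : l ≫ pullback.snd _ _ = (b.1 : X.Opens).fromSpecStalkOfMem η b.2 := pullback.lift_snd _ _ _
    haveI : IsDominant (l ≫ pullback.fst (a.1 : X.Opens).ι (b.1 : X.Opens).ι ≫ (a.1 : X.Opens).ι) := by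
      rw [reassoc_of% hl1, Scheme.Opens.fromSpecStalkOfMem_ι]
      exact isDominant_fromSpecStalk_genericPoint
    haveI : IsDominant l := IsDominant.of_comp_of_isOpenImmersion l
      (pullback.fst (a.1 : X.Opens).ι (b.1 : X.Opens).ι ≫ (a.1 : X.Opens).ι)
    refine ext_of_isDominant_of_isSeparated g ?_ l ?_
    · rw [Category.assoc, Category.assoc, hσ a, hσ b]
      exact pullback.condition
    · rw [reassoc_of% hl1, reassoc_of% hl2, hσt a _ (Scheme.Opens.fromSpecStalkOfMem_ι _ _ _),
        hσt b _ (Scheme.Opens.fromSpecStalkOfMem_ι _ _ _)]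
  refine ⟨𝒰.glueMorphisms σ hag, 𝒰.hom_ext _ _ fun a => ?_, ?_⟩
  · exact ((Category.assoc _ _ _).symm.trans (congrArg (· ≫ g) (𝒰.ι_glueMorphisms σ hag a))).trans
      ((hσ a).trans (Category.comp_id _).symm)
  · obtain ⟨a⟩ : Nonempty J := by
      obtain ⟨V, hV, hxV, -⟩ := exists_isAffineOpen_mem_and_subset (U := (⊤ : X.Opens)) (x := η) trivial
      exact ⟨⟨⟨V, hV⟩, hxV⟩⟩
    have hr : Set.range (X.fromSpecStalk η) ⊆ Set.range (a.1 : X.Opens).ι := by
      rw [Scheme.Opens.range_ι, Scheme.range_fromSpecStalk]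
      exact fun z hz => hz.mem_open (a.1 : X.Opens).isOpen a.2
    rw [← IsOpenImmersion.lift_fac (a.1 : X.Opens).ι (X.fromSpecStalk η) hr, Category.assoc]
    exact (congrArg (_ ≫ ·) (𝒰.ι_glueMorphisms σ hag a)).trans
      (hσt a _ (IsOpenImmersion.lift_fac _ _ _))

end GrothLib.NormalExt
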